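import Groth.Agent.H1TorUnif.Annih
import Groth.Agent.BlowUpLib.Chart
import Mathlib

/-! Uniform annihilation of `Tor_i(A[I/a], M)`. -/

set_option autoImplicit false
set_option backward.isDefEq.respectTransparency false
set_option backward.isDefEq.respectTransparency.types false
set_option linter.style.haveILetI false

universe u

open CategoryTheory Limits MonoidalCategory TensorProduct

namespace H1TorUnif

open Groth.Agent.TorBridge KerNat H1TorAR

variable {A : Type u} [CommRing A] {I : Ideal A} (a : I)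

local notation "L" => Localization.Away (a : A)
local notation "B" => BlowUp.affineAlgebra A I (a : A)

/-- `x ↦ x/a^n`. -/
noncomputable def frac (n : ℕ) : ↥(I ^ n) →ₗ[A] B :=
  { toFun := fun x => ⟨algebraMap A L x * IsLocalization.Away.invSelf (a : A) ^ n,
      Groth.Agent.BlowUpLib.mul_invSelf_pow_mem I a n x x.2⟩
    map_add' := fun x y => Subtype.ext (by
      show algebraMap A L ((x : A) + y) * _ = algebraMap A L x * _ + algebraMap A L y * _
      rw [map_add, add_mul])
    map_smul' := fun r x => Subtype.ext (by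
      show algebraMap A L (r * (x : A)) * _ = r • (algebraMap A L x * _)
      rw [map_mul, mul_assoc, Algebra.smul_def]) }

theorem mulAinv (n e : ℕ) : algebraMap A L ((a : A) ^ e) * IsLocalization.Away.invSelf (a : A) ^ (n + e) =
    IsLocalization.Away.invSelf (a : A) ^ n := by
  rw [map_pow, pow_add, mul_comm _ (IsLocalization.Away.invSelf (a : A) ^ e), ← mul_assoc, ← mul_pow,
    IsLocalization.Away.mul_invSelf, one_pow, one_mul]

/-- Multiplication by `a^e`. -/
noncomputable def up (n e : ℕ) : ↥(I ^ n) →ₗ[A] ↥(I ^ (n + e)) :=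
  (((a : A) ^ e) • (Submodule.subtype (I ^ n))).codRestrict _ fun x => by
    rw [LinearMap.smul_apply, smul_eq_mul, mul_comm, pow_add]
    exact Ideal.mul_mem_mul x.2 (Ideal.pow_mem_pow a.2 e)

theorem frac_up (n e : ℕ) : frac a (n + e) ∘ₗ up a n e = frac a n := by
  refine LinearMap.ext fun x => Subtype.ext ?_
  show algebraMap A L ((a : A) ^ e * (x : A)) * _ = algebraMap A L x * _
  rw [map_mul, mul_comm (algebraMap A L ((a : A) ^ e)), mul_assoc, mulAinv]

theorem frac_up_apply (n e : ℕ) (x : ↥(I ^ n)) : frac a (n + e) (up a n e x) = frac a n x :=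
  DFunLike.congr_fun (frac_up a n e) x

theorem frac_surjective (y : B) : ∃ n, y ∈ LinearMap.range (frac a n) := by
  obtain ⟨q, hq⟩ := y
  have hq' := hq
  change q ∈ Algebra.adjoin _ _ at hq'
  suffices H : ∃ n, ∃ x : ↥(I ^ n), algebraMap A L x * IsLocalization.Away.invSelf (a : A) ^ n = q by
    obtain ⟨n, x, hx⟩ := H
    exact ⟨n, x, Subtype.ext hx⟩
  clear hq
  induction hq' using Algebra.adjoin_induction with
  | mem q hq =>
    obtain ⟨x, hx, rfl⟩ := hq
    refine ⟨1, ⟨x, by rwa [pow_one]⟩, ?_⟩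
    symm
    rw [IsLocalization.mk'_eq_iff_eq_mul]
    show algebraMap A L x = algebraMap A L x * IsLocalization.Away.invSelf (a : A) ^ (1 : ℕ) * algebraMap A L (a : A)
    rw [pow_one (IsLocalization.Away.invSelf (a : A) : L), mul_assoc, mul_comm (IsLocalization.Away.invSelf (a : A)),
      IsLocalization.Away.mul_invSelf, mul_one]
  | algebraMap r => exact ⟨0, ⟨r, by simp⟩, by show algebraMap A L r * _ = _; rw [pow_zero, mul_one]⟩
  | add p q _ _ hp hq2 =>
    obtain ⟨n, x, rfl⟩ := hp; obtain ⟨m, y, rfl⟩ := hq2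
    refine ⟨n + m, ⟨(a : A) ^ m * x + (a : A) ^ n * y, add_mem ?_ ?_⟩, ?_⟩
    · rw [pow_add, mul_comm ((a : A) ^ m)]; exact Ideal.mul_mem_mul x.2 (Ideal.pow_mem_pow a.2 m)
    · rw [pow_add]; exact Ideal.mul_mem_mul (Ideal.pow_mem_pow a.2 n) y.2
    · show algebraMap A L _ * _ = _
      rw [map_add, add_mul, map_mul, map_mul, mul_comm (algebraMap A L ((a : A) ^ m)), mul_assoc, mulAinv,
        mul_comm (algebraMap A L ((a : A) ^ n)), mul_assoc, add_comm n m, mulAinv]
  | mul p q _ _ hp hq2 =>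
    obtain ⟨n, x, rfl⟩ := hp; obtain ⟨m, y, rfl⟩ := hq2
    refine ⟨n + m, ⟨x * y, by rw [pow_add]; exact Ideal.mul_mem_mul x.2 y.2⟩, ?_⟩
    show algebraMap A L _ * _ = _
    rw [map_mul, pow_add, mul_mul_mul_comm]

theorem exists_up_eq_zero [IsNoetherianRing A] (n : ℕ) :
    ∃ e, ∀ x ∈ LinearMap.ker (frac a n), up a n e x = 0 := by
  classical
  obtain ⟨s, hs⟩ := IsNoetherian.noetherian (LinearMap.ker (frac a n))
  have hx : ∀ x ∈ LinearMap.ker (frac a n), ∃ e, (a : A) ^ e * (x : A) = 0 := fun x hx => by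
    have h := congrArg Subtype.val (LinearMap.mem_ker.1 hx)
    change algebraMap A L x * _ = 0 at h
    have h' := congrArg (· * algebraMap A L ((a : A) ^ n)) h
    simp only [zero_mul] at h'
    have h2 := mulAinv a 0 n
    rw [pow_zero, zero_add] at h2
    rw [mul_assoc, mul_comm (IsLocalization.Away.invSelf (a : A) ^ n), h2, mul_one,
      IsLocalization.map_eq_zero_iff (Submonoid.powers (a : A))] at h'
    obtain ⟨⟨_, e, rfl⟩, he⟩ := h'
    exact ⟨e, he⟩
  choose! e he using hx
  refine ⟨s.sup e, fun x hxk => ?_⟩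
  rw [← hs] at hxk
  refine (Submodule.span_le.2 (fun y hy => ?_) hxk : x ∈ LinearMap.ker (up a n (s.sup e)))
  have hyk : y ∈ LinearMap.ker (frac a n) := hs ▸ Submodule.subset_span hy
  rw [SetLike.mem_coe, LinearMap.mem_ker]
  refine Subtype.ext ?_
  show (a : A) ^ s.sup e * (y : A) = 0
  obtain ⟨d, hd⟩ := Nat.exists_eq_add_of_le (Finset.le_sup (f := e) hy)
  rw [hd, pow_add, mul_comm ((a : A) ^ e y), mul_assoc, he y hyk, mul_zero]

theorem rTensor_surjective (X : Type u) [AddCommGroup X] [Module A X] (z : B ⊗[A] X) :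
    ∃ n, z ∈ LinearMap.range ((frac a n).rTensor X) := by
  induction z using TensorProduct.induction_on with
  | zero => exact ⟨0, zero_mem _⟩
  | tmul y x =>
    obtain ⟨n, w, rfl⟩ := frac_surjective a y
    exact ⟨n, w ⊗ₜ[A] x, rfl⟩
  | add p q hp hq =>
    obtain ⟨n, x, rfl⟩ := hp; obtain ⟨m, y, rfl⟩ := hq
    refine ⟨n + m, add_mem ⟨(up a n m).rTensor X x, ?_⟩ ?_⟩
    · rw [← LinearMap.comp_apply, ← LinearMap.rTensor_comp, frac_up]
    · rw [add_comm n m]
      exact ⟨(up a m n).rTensor X y, by rw [← LinearMap.comp_apply, ← LinearMap.rTensor_comp, frac_up]⟩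

theorem rTensor_eq_zero [IsNoetherianRing A] (X : Type u) [AddCommGroup X] [Module A X] [Module.Flat A X] (n : ℕ)
    (z : ↥(I ^ n) ⊗[A] X) (hz : (frac a n).rTensor X z = 0) : ∃ e, (up a n e).rTensor X z = 0 := by
  obtain ⟨e, he⟩ := exists_up_eq_zero a n
  refine ⟨e, ?_⟩
  obtain ⟨w, rfl⟩ := (Module.Flat.rTensor_exact X (frac a n).exact_subtype_ker_map z).1 hz
  rw [← LinearMap.comp_apply, ← LinearMap.rTensor_comp,
    show up a n e ∘ₗ (LinearMap.ker (frac a n)).subtype = 0 from LinearMap.ext fun x => he x x.2,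
    LinearMap.rTensor_zero, LinearMap.zero_apply]

variable [IsNoetherianRing A]

/-- Cycles descend. -/
theorem exists_cycle {Y : ModuleCat.{u} A} (Q : ProjectiveResolution Y) (p : ℕ)
    (z : B ⊗[A] Q.complex.X (p + 1)) (hz : (Q.complex.d (p + 1) p).hom.lTensor B z = 0) :
    ∃ n, ∃ w : ↥(I ^ n) ⊗[A] Q.complex.X (p + 1),
      (Q.complex.d (p + 1) p).hom.lTensor ↥(I ^ n) w = 0 ∧ (frac a n).rTensor _ w = z := by
  haveI : Module.Projective A (Q.complex.X p) := (IsProjective.iff_projective _).2 (Q.projective p)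
  obtain ⟨n, w, rfl⟩ := rTensor_surjective a _ z
  rw [← LinearMap.comp_apply, LinearMap.lTensor_comp_rTensor, ← LinearMap.rTensor_comp_lTensor,
    LinearMap.comp_apply] at hz
  obtain ⟨e, he⟩ := rTensor_eq_zero a _ n _ hz
  refine ⟨n + e, (up a n e).rTensor _ w, ?_, by rw [← LinearMap.comp_apply, ← LinearMap.rTensor_comp, frac_up]⟩
  rw [← LinearMap.comp_apply, LinearMap.lTensor_comp_rTensor, ← LinearMap.rTensor_comp_lTensor, LinearMap.comp_apply]
  exact he

theorem smul_homology_blowUp {b : A} {Y : ModuleCat.{u} A} (Q : ProjectiveResolution Y) (p : ℕ)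
    (h : ∀ n (x : (H1TorAR.C Q (ModuleCat.of A ↥(I ^ n))).homology (p + 1)), b • x = 0)
    (x : (H1TorAR.C Q (ModuleCat.of A B)).homology (p + 1)) : b • x = 0 := by
  let K := H1TorAR.C Q (ModuleCat.of A B)
  obtain ⟨c, rfl⟩ := (ModuleCat.epi_iff_surjective (K.homologyπ (p + 1))).1 inferInstance x
  have hc : (K.d (p + 1) p).hom (K.iCycles (p + 1) c) = 0 := by
    show (K.iCycles (p + 1) ≫ K.d (p + 1) p).hom c = 0
    rw [K.iCycles_d]; rfl
  obtain ⟨n, w, hw, hwc⟩ := exists_cycle a Q p _ hc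
  let K' := H1TorAR.C Q (ModuleCat.of A ↥(I ^ n))
  obtain ⟨c', hc'⟩ : ∃ c' : K'.cycles (p + 1), K'.iCycles (p + 1) c' = w := by
    let T := ShortComplex.mk (K'.iCycles (p + 1)) (K'.d (p + 1) p) (K'.iCycles_d _ _)
    have hT : T.Exact := T.exact_of_f_is_kernel (K'.cyclesIsKernel (p + 1) p (by simp))
    rw [ShortComplex.moduleCat_exact_iff] at hT
    exact hT w hw
  let φ : K' ⟶ K := cmap Q (ModuleCat.ofHom (frac a n))
  have hcc : HomologicalComplex.cyclesMap φ (p + 1) c' = c := by
    refine (ModuleCat.mono_iff_injective (K.iCycles (p + 1))).1 inferInstance ?_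
    show (HomologicalComplex.cyclesMap φ (p + 1) ≫ K.iCycles (p + 1)).hom c' = _
    rw [HomologicalComplex.cyclesMap_i]
    show (φ.f (p + 1)).hom (K'.iCycles (p + 1) c') = _
    rw [hc']
    exact hwc
  rw [← hcc]
  show b • (HomologicalComplex.cyclesMap φ (p + 1) ≫ K.homologyπ (p + 1)).hom c' = 0
  rw [← HomologicalComplex.homologyπ_naturality, ModuleCat.hom_comp, LinearMap.comp_apply, ← map_smul, h n, map_zero]

omit [IsNoetherianRing A] in
theorem smul_homology_pow {b : A} {Y : ModuleCat.{u} A} (Q : ProjectiveResolution Y) (J : Ideal A) (p : ℕ)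
    (h : ∀ (x : (H1TorAR.C Q (ModuleCat.of A (A ⧸ J))).homology (p + 2)), b • x = 0)
    (x : (H1TorAR.C Q (ModuleCat.of A ↥J)).homology (p + 1)) : b • x = 0 := by
  haveI : Epi ((seq_shortExact (shortExact_idealSC J) Q).δ (p + 2) (p + 1) rfl) := by
    refine ((seq_shortExact (shortExact_idealSC J) Q).homology_exact₁ (p + 2) (p + 1) rfl).epi_f ?_
    refine IsZero.eq_of_tgt ?_ _ _
    show IsZero ((((ten (ModuleCat.of A A)).mapHomologicalComplex _).obj Q.complex).homology (p + 1))
    rw [← HomologicalComplex.exactAt_iff_isZero_homology,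
      HomologicalComplex.exactAt_iff' _ (p + 2) (p + 1) p (by simp) (by simp),
      ShortComplex.ShortExact.moduleCat_exact_iff_function_exact]
    exact Module.Flat.lTensor_exact A
      ((ShortComplex.ShortExact.moduleCat_exact_iff_function_exact _).1 (Q.exact_succ p))
  obtain ⟨y, rfl⟩ := (ModuleCat.epi_iff_surjective ((seq_shortExact (shortExact_idealSC J) Q).δ (p + 2) (p + 1) rfl)).1
    inferInstance x
  exact (map_smul _ b y).symm.trans ((congrArg _ (h y)).trans (map_zero _))

theorem smul_flip_symm {X : ModuleCat.{u} A} (M : ModuleCat.{u} A) (i : ℕ) {b : A}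
    (h : ∀ y : ((Tor (ModuleCat.{u} A) i).obj M).obj X, b • y = 0)
    (x : (H1TorAR.C (projectiveResolution M) X).homology i) : b • x = 0 := by
  obtain ⟨e⟩ := Groth.Agent.CAlgOdd.TorSymm.nonempty_flip (R := A) i
  have f := ((e.app M).app X).toLinearEquiv.trans
    ((projectiveResolution M).isoLeftDerivedObj (ten X) i).toLinearEquiv
  refine f.symm.injective ?_
  rw [map_smul, map_zero]
  exact h _

/-- A uniform annihilator of `Tor_i(A[I/a], M)`. -/
theorem smul_tor_blowUp {b : A} (t : ℕ)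
    (h : ∀ (q : ℕ) (M : ModuleCat.{u} A) (i : ℕ), t < i →
      ∀ y : ((Tor (ModuleCat.{u} A) i).obj M).obj (ModuleCat.of A (A ⧸ I ^ q)), b • y = 0)
    (M : ModuleCat.{u} A) (i : ℕ) (hi : t ≤ i) (hi0 : 0 < i)
    (y : ((Tor (ModuleCat.{u} A) i).obj (ModuleCat.of A B)).obj M) : b • y = 0 := by
  obtain ⟨p, rfl⟩ := Nat.exists_eq_succ_of_ne_zero hi0.ne'
  refine ((projectiveResolution M).isoLeftDerivedObj (ten (ModuleCat.of A B)) (p + 1)).toLinearEquiv.injective ?_
  rw [map_smul, map_zero]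
  exact smul_homology_blowUp a _ p (fun n => smul_homology_pow _ _ p
    (smul_flip_symm M (p + 2) (h n M (p + 2) (by omega)))) _

end H1TorUnif
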