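import Groth.Agent.H1TorAR.Rees
import Mathlib

/-! Uniform Artin–Rees for `Tor_{p+1}(M, R/I^n)`, `M` finite. -/

set_option autoImplicit false
set_option backward.isDefEq.respectTransparency false
set_option backward.isDefEq.respectTransparency.types false
set_option linter.style.haveILetI false

universe u

open CategoryTheory Limits MonoidalCategory TensorProduct

namespace H1TorUnif

open Groth.Agent.TorBridge KerNat

variable {R : Type u} [CommRing R] [IsNoetherianRing R] (I : Ideal R)

/-- A chain map over the projection `R/I^n → R/I^m`. -/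
def IsLift {n m : ℕ} (h : I ^ n ≤ I ^ m) (Q : ProjectiveResolution (ModuleCat.of R (R ⧸ I ^ n)))
    (Q' : ProjectiveResolution (ModuleCat.of R (R ⧸ I ^ m))) (φ : Q.complex ⟶ Q'.complex) : Prop :=
  φ.f 0 ≫ Q'.π.f 0 = Q.π.f 0 ≫ ModuleCat.ofHom (Submodule.factor h)

/-- Artin–Rees in degree one. -/
theorem tor_one_uniform (M : ModuleCat.{u} R) [Module.Finite R M] :
    ∃ c : ℕ, ∀ (k : ℕ) (h : I ^ (k + c) ≤ I ^ k),
      ((ten M).leftDerived 1).map (ModuleCat.ofHom (Submodule.factor h) :
        ModuleCat.of R (R ⧸ I ^ (k + c)) ⟶ ModuleCat.of R (R ⧸ I ^ k)) = 0 := by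
  classical
  obtain ⟨r, π, hπ⟩ := Module.Finite.exists_fin' R M
  obtain ⟨c, hc⟩ := Ideal.exists_pow_inf_eq_pow_smul I (LinearMap.ker π)
  refine ⟨c, fun k h => ?_⟩
  let S : ShortComplex (ModuleCat.{u} R) := ShortComplex.mk (ModuleCat.ofHom (LinearMap.ker π).subtype)
    (ModuleCat.ofHom π) (ModuleCat.hom_ext (LinearMap.ext fun x => x.2))
  have hS : S.ShortExact :=
    { exact := (ShortComplex.ShortExact.moduleCat_exact_iff_function_exact _).2 (LinearMap.exact_subtype_ker_map π)
      mono_f := (ModuleCat.mono_iff_injective _).2 Subtype.val_injective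
      epi_g := (ModuleCat.epi_iff_surjective _).2 hπ }
  haveI : Module.Flat R S.X₂ := inferInstanceAs (Module.Flat R (Fin r → R))
  let f : ModuleCat.of R (R ⧸ I ^ (k + c)) ⟶ ModuleCat.of R (R ⧸ I ^ k) := ModuleCat.ofHom (Submodule.factor h)
  refine ModuleCat.hom_ext (LinearMap.ext fun x => ?_)
  apply KerNat.θ_injective hS (ModuleCat.of R (R ⧸ I ^ k))
  refine Eq.trans ?_ (map_zero _).symm
  refine (congrArg (fun φ => φ.hom x) (KerNat.θ_natural hS f)).trans ?_
  show (f.hom.lTensor (LinearMap.ker π)) ((KerNat.θ hS (ModuleCat.of R (R ⧸ I ^ (k + c)))).hom x) = 0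
  generalize hz : (KerNat.θ hS (ModuleCat.of R (R ⧸ I ^ (k + c)))).hom x = z
  have hz0 : ((LinearMap.ker π).subtype.rTensor (R ⧸ I ^ (k + c))) z = 0 := by
    rw [← hz]
    exact (KerNat.θ_range hS (ModuleCat.of R (R ⧸ I ^ (k + c)))).apply_apply_eq_zero x
  obtain ⟨y, rfl⟩ : ∃ y : LinearMap.ker π, y ⊗ₜ[R] Ideal.Quotient.mk (I ^ (k + c)) 1 = z := by
    obtain ⟨y, hy⟩ := Submodule.mkQ_surjective _
      (TensorProduct.tensorQuotEquivQuotSMul (LinearMap.ker π) (I ^ (k + c)) z)
    exact ⟨y, (TensorProduct.tensorQuotEquivQuotSMul (LinearMap.ker π) (I ^ (k + c))).injective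
      (by rw [← hy, map_one]; exact TensorProduct.tensorQuotEquivQuotSMul_tmul_mk (I ^ (k + c)) y 1 |>.trans (by simp))⟩
  rw [LinearMap.rTensor_tmul, Submodule.coe_subtype, ← map_eq_zero_iff _
    (TensorProduct.tensorQuotEquivQuotSMul (Fin r → R) (I ^ (k + c))).injective,
    TensorProduct.tensorQuotEquivQuotSMul_tmul_mk, one_smul, Submodule.Quotient.mk_eq_zero] at hz0
  rw [LinearMap.lTensor_tmul, show f.hom (Ideal.Quotient.mk (I ^ (k + c)) 1) = Ideal.Quotient.mk (I ^ k) 1 from
    Submodule.factor_mk h 1, ← map_eq_zero_iff _ (TensorProduct.tensorQuotEquivQuotSMul (LinearMap.ker π) (I ^ k)).injective]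
  refine (TensorProduct.tensorQuotEquivQuotSMul_tmul_mk (I ^ k) y 1).trans
    ((Submodule.Quotient.mk_eq_zero _).2 ?_)
  rw [one_smul]
  have h1 : (y : Fin r → R) ∈ I ^ k • LinearMap.ker π := by
    have h2 := hc (k + c) (Nat.le_add_left c k)
    rw [Nat.add_sub_cancel] at h2
    exact Submodule.smul_mono le_rfl inf_le_right (h2.le ⟨hz0, y.2⟩)
  have h3 : (LinearMap.ker π).subtype y ∈
      Submodule.map (LinearMap.ker π).subtype (I ^ k • (⊤ : Submodule R (LinearMap.ker π))) := by
    rw [Submodule.map_smul'', Submodule.map_top, Submodule.range_subtype]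
    exact h1
  obtain ⟨w, hw, hwy⟩ := h3
  rwa [Subtype.val_injective hwy] at hw

/-- Uniform vanishing of the maps on homology, in every positive degree. -/
theorem homology_uniform : ∀ (p : ℕ) (M : ModuleCat.{u} R), Module.Finite R M →
    ∃ c : ℕ, ∀ (k : ℕ) (h : I ^ (k + c) ≤ I ^ k) (Q : ProjectiveResolution (ModuleCat.of R (R ⧸ I ^ (k + c))))
      (Q' : ProjectiveResolution (ModuleCat.of R (R ⧸ I ^ k))) (φ : Q.complex ⟶ Q'.complex), IsLift I h Q Q' φ →
      HomologicalComplex.homologyMap (((ten M).mapHomologicalComplex _).map φ) (p + 1) = 0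
  | 0, M, hM => by
    obtain ⟨c, hc⟩ := tor_one_uniform I M
    refine ⟨c, fun k h Q Q' φ hφ => ?_⟩
    have := ProjectiveResolution.isoLeftDerivedObj_hom_naturality
      (ModuleCat.ofHom (Submodule.factor h) :
        ModuleCat.of R (R ⧸ I ^ (k + c)) ⟶ ModuleCat.of R (R ⧸ I ^ k)) Q Q' φ hφ (ten M) 1
    rw [hc k h, zero_comp] at this
    rw [← cancel_epi (Q.isoLeftDerivedObj (ten M) 1).hom, comp_zero]
    exact this.symm
  | p + 1, M, hM => by
    classical
    obtain ⟨r, π, hπ⟩ := Module.Finite.exists_fin' R M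
    let S : ShortComplex (ModuleCat.{u} R) := ShortComplex.mk (ModuleCat.ofHom (LinearMap.ker π).subtype)
      (ModuleCat.ofHom π) (ModuleCat.hom_ext (LinearMap.ext fun x => x.2))
    have hS : S.ShortExact :=
      { exact := (ShortComplex.ShortExact.moduleCat_exact_iff_function_exact _).2 (LinearMap.exact_subtype_ker_map π)
        mono_f := (ModuleCat.mono_iff_injective _).2 Subtype.val_injective
        epi_g := (ModuleCat.epi_iff_surjective _).2 hπ }
    obtain ⟨c, hc⟩ := homology_uniform p S.X₁ (Module.Finite.iff_fg.2 (IsNoetherian.noetherian _))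
    refine ⟨c, fun k h Q Q' φ hφ => ?_⟩
    haveI : Mono ((seq_shortExact hS Q').δ (p + 2) (p + 1) rfl) := by
      refine ((seq_shortExact hS Q').homology_exact₃ (p + 2) (p + 1) rfl).mono_g ?_
      refine IsZero.eq_of_src ?_ _ _
      show IsZero ((((ten (ModuleCat.of R (Fin r → R))).mapHomologicalComplex _).obj Q'.complex).homology (p + 2))
      rw [← HomologicalComplex.exactAt_iff_isZero_homology,
        HomologicalComplex.exactAt_iff' _ (p + 3) (p + 2) (p + 1) (by simp) (by simp),
        ShortComplex.ShortExact.moduleCat_exact_iff_function_exact]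
      exact Module.Flat.lTensor_exact (Fin r → R)
        ((ShortComplex.ShortExact.moduleCat_exact_iff_function_exact _).1 (Q'.exact_succ (p + 1)))
    have hδ := HomologicalComplex.HomologySequence.δ_naturality (seqMap (S := S) φ)
      (seq_shortExact hS Q) (seq_shortExact hS Q') (p + 2) (p + 1) rfl
    rw [← cancel_mono ((seq_shortExact hS Q').δ (p + 2) (p + 1) rfl), zero_comp]
    refine hδ.symm.trans ?_
    rw [show HomologicalComplex.homologyMap (seqMap (S := S) φ).τ₁ (p + 1) = 0 from hc k h Q Q' φ hφ, comp_zero]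

end H1TorUnif
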