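import Groth.Agent.H1TorUnif.Main

/-! Uniform annihilation of `Tor_i(M, A/I^q)`. -/

set_option autoImplicit false
set_option backward.isDefEq.respectTransparency false
set_option backward.isDefEq.respectTransparency.types false
set_option linter.style.haveILetI false

universe u

open CategoryTheory Limits MonoidalCategory TensorProduct

namespace H1TorUnif

open Groth.Agent.TorBridge KerNat H1TorAR

variable {A : Type u} [CommRing A]

theorem hmap_smul_id {Y : ModuleCat.{u} A} (Q : ProjectiveResolution Y) (X : ModuleCat.{u} A) (b : A) (p : ℕ) :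
    hmap Q (b • 𝟙 X) p = b • 𝟙 _ := by
  rw [hmap, show cmap Q (b • 𝟙 X) = b • 𝟙 (H1TorAR.C Q X) by
    refine HomologicalComplex.hom_ext _ _ fun j => ?_
    refine ModuleCat.hom_ext (TensorProduct.ext' fun x y => ?_)
    show (b • x) ⊗ₜ[A] y = b • (x ⊗ₜ[A] y)
    rw [TensorProduct.smul_tmul'], homologyMap_smul', HomologicalComplex.homologyMap_id]

theorem smul_flip {X : ModuleCat.{u} A} (M : ModuleCat.{u} A) (i : ℕ) {b : A}
    (h : ∀ x : (H1TorAR.C (projectiveResolution M) X).homology i, b • x = 0)
    (y : ((Tor (ModuleCat.{u} A) i).obj M).obj X) : b • y = 0 := by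
  obtain ⟨e⟩ := Groth.Agent.CAlgOdd.TorSymm.nonempty_flip (R := A) i
  have f := ((e.app M).app X).toLinearEquiv.trans
    ((projectiveResolution M).isoLeftDerivedObj (ten X) i).toLinearEquiv
  refine f.injective ?_
  rw [map_smul, map_zero]
  exact h _

variable [IsNoetherianRing A] (I : Ideal A) (t c : ℕ)

theorem smul_tor_eq_zero (hc : ∀ (k : ℕ) (h : I ^ (k + c) ≤ I ^ k) {Y : ModuleCat.{u} A} (Q : ProjectiveResolution Y),
      hmap Q (ModuleCat.ofHom (Submodule.factor h)) (t + 1) = 0) (q : ℕ) (b : A) (hb : b ∈ I ^ c) :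
    ∀ (i : ℕ), t < i → ∀ (M : ModuleCat.{u} A) (y : ((Tor (ModuleCat.{u} A) i).obj M).obj (ModuleCat.of A (A ⧸ I ^ q))),
      b • y = 0 := by
  classical
  have base : ∀ (M : ModuleCat.{u} A) (x : (H1TorAR.C (projectiveResolution M) (ModuleCat.of A (A ⧸ I ^ q))).homology (t + 1)),
      b • x = 0 := by
    intro M x
    have h0 : hmap (projectiveResolution M) (b • 𝟙 (ModuleCat.of A (A ⧸ I ^ q))) (t + 1) = 0 := by
      rcases Nat.lt_or_ge q c with hq | hq
      · rw [show b • 𝟙 (ModuleCat.of A (A ⧸ I ^ q)) = 0 by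
          refine ModuleCat.hom_ext (LinearMap.ext fun z => ?_)
          obtain ⟨r, rfl⟩ := Submodule.Quotient.mk_surjective _ z
          show b • (Submodule.Quotient.mk r : A ⧸ I ^ q) = 0
          rw [← Submodule.Quotient.mk_smul, Submodule.Quotient.mk_eq_zero, smul_eq_mul]
          exact Ideal.mul_mem_right _ _ (Ideal.pow_le_pow_right hq.le hb)]
        exact hmap_zero _ _
      · obtain ⟨k, rfl⟩ : ∃ k, q = k + c := ⟨q - c, by omega⟩
        have hle : I ^ (k + c) ≤ I ^ k := Ideal.pow_le_pow_right (Nat.le_add_right k c)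
        let m : (A ⧸ I ^ k) →ₗ[A] (A ⧸ I ^ (k + c)) := Submodule.liftQ _ (b • (I ^ (k + c)).mkQ) fun r hr => by
          rw [LinearMap.mem_ker, LinearMap.smul_apply, Submodule.mkQ_apply, ← Submodule.Quotient.mk_smul,
            Submodule.Quotient.mk_eq_zero, smul_eq_mul, mul_comm, pow_add]
          exact Ideal.mul_mem_mul hr hb
        rw [show b • 𝟙 (ModuleCat.of A (A ⧸ I ^ (k + c))) = ModuleCat.ofHom (Submodule.factor hle) ≫ ModuleCat.ofHom m by
          refine ModuleCat.hom_ext (LinearMap.ext fun z => ?_)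
          obtain ⟨r, rfl⟩ := Submodule.Quotient.mk_surjective _ z
          rfl, hmap_comp, hc k hle, zero_comp]
    rw [hmap_smul_id] at h0
    exact congrArg (fun f => f.hom x) h0
  intro i hi M
  let X := ModuleCat.of A (A ⧸ I ^ q)
  let Q := projectiveResolution X
  suffices H : ∀ p, t < p → ∀ (N : ModuleCat.{u} A) (z : (((ten N).mapHomologicalComplex _).obj Q.complex).homology p),
      b • z = 0 by
    intro y
    refine (Q.isoLeftDerivedObj (ten M) i).toLinearEquiv.injective ?_
    rw [map_smul, map_zero]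
    exact H i hi M _
  intro p hp
  induction p, hp using Nat.le_induction with
  | base =>
    intro N z
    refine (Q.isoLeftDerivedObj (ten N) (t + 1)).toLinearEquiv.symm.injective ?_
    rw [map_smul, map_zero]
    exact smul_flip N (t + 1) (base N) _
  | succ p hp ih =>
    intro N z
    let π : (N →₀ A) →ₗ[A] N := Finsupp.linearCombination A id
    let S : ShortComplex (ModuleCat.{u} A) := ShortComplex.mk (X₁ := ModuleCat.of A (LinearMap.ker π))
      (X₂ := ModuleCat.of A (N →₀ A)) (X₃ := N) (ModuleCat.ofHom (LinearMap.ker π).subtype)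
      (ModuleCat.ofHom π) (ModuleCat.hom_ext (LinearMap.ext fun (x : LinearMap.ker π) => x.2))
    have hS : S.ShortExact :=
      { exact := (ShortComplex.ShortExact.moduleCat_exact_iff_function_exact _).2 (LinearMap.exact_subtype_ker_map π)
        mono_f := (ModuleCat.mono_iff_injective _).2 Subtype.val_injective
        epi_g := (ModuleCat.epi_iff_surjective _).2 (Finsupp.linearCombination_id_surjective A N) }
    haveI : Module.Flat A S.X₂ := inferInstanceAs (Module.Flat A (N →₀ A))
    haveI := mono_δ Q hS p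
    refine (ModuleCat.mono_iff_injective _).1 (this) ?_
    exact ((map_smul _ b z).trans (ih S.X₁ _)).trans (map_zero _).symm

end H1TorUnif
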