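import Groth.Agent.H1TorAR.Basic
import Mathlib

/-! Dimension shifting for the maps in the first variable, and cycles from vanishing homology maps. -/

set_option autoImplicit false
set_option backward.isDefEq.respectTransparency false
set_option backward.isDefEq.respectTransparency.types false
set_option linter.style.haveILetI false

universe u

open CategoryTheory Limits MonoidalCategory TensorProduct

namespace H1TorUnif

open Groth.Agent.TorBridge KerNat H1TorAR

variable {A : Type u} [CommRing A] {Y : ModuleCat.{u} A} (Q : ProjectiveResolution Y)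
  {S S' : ShortComplex (ModuleCat.{u} A)}

/-- A morphism of sequences gives a morphism of sequences of complexes. -/
noncomputable def seqHom (τ : S ⟶ S') : seq S Q ⟶ seq S' Q where
  τ₁ := cmap Q τ.τ₁
  τ₂ := cmap Q τ.τ₂
  τ₃ := cmap Q τ.τ₃
  comm₁₂ := by
    show cmap Q τ.τ₁ ≫ cmap Q S'.f = cmap Q S.f ≫ cmap Q τ.τ₂
    rw [← cmap_comp, ← cmap_comp, τ.comm₁₂]
  comm₂₃ := by
    show cmap Q τ.τ₂ ≫ cmap Q S'.g = cmap Q S.g ≫ cmap Q τ.τ₃
    rw [← cmap_comp, ← cmap_comp, τ.comm₂₃]

theorem mono_δ (hS' : S'.ShortExact) [Module.Flat A S'.X₂] (p : ℕ) :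
    Mono ((seq_shortExact hS' Q).δ (p + 1) p rfl) := by
  refine ((seq_shortExact hS' Q).homology_exact₃ (p + 1) p rfl).mono_g ?_
  refine IsZero.eq_of_src ?_ _ _
  show IsZero ((((ten S'.X₂).mapHomologicalComplex _).obj Q.complex).homology (p + 1))
  rw [← HomologicalComplex.exactAt_iff_isZero_homology,
    HomologicalComplex.exactAt_iff' _ (p + 2) (p + 1) p (by simp) (by simp),
    ShortComplex.ShortExact.moduleCat_exact_iff_function_exact]
  exact Module.Flat.lTensor_exact S'.X₂
    ((ShortComplex.ShortExact.moduleCat_exact_iff_function_exact _).1 (Q.exact_succ p))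

theorem shift (hS : S.ShortExact) (hS' : S'.ShortExact) [Module.Flat A S'.X₂] (τ : S ⟶ S') (p : ℕ)
    (h0 : hmap Q τ.τ₁ p = 0) : hmap Q τ.τ₃ (p + 1) = 0 := by
  haveI := mono_δ Q hS' p
  have hδ := HomologicalComplex.HomologySequence.δ_naturality (seqHom Q τ)
    (seq_shortExact hS Q) (seq_shortExact hS' Q) (p + 1) p rfl
  rw [← cancel_mono ((seq_shortExact hS' Q).δ (p + 1) p rfl), zero_comp]
  refine hδ.symm.trans ?_
  rw [show HomologicalComplex.homologyMap (seqHom Q τ).τ₁ p = 0 from h0, comp_zero]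

theorem shift_retract (hS : S.ShortExact) (hS' : S'.ShortExact) [Module.Flat A S'.X₂] (τ : S ⟶ S') (p : ℕ)
    (r : S'.X₂ ⟶ S'.X₁) (hr : τ.τ₁ ≫ S'.f ≫ r = τ.τ₁) : hmap Q τ.τ₃ (p + 1) = 0 := by
  haveI := mono_δ Q hS' p
  have hδ := HomologicalComplex.HomologySequence.δ_naturality (seqHom Q τ)
    (seq_shortExact hS Q) (seq_shortExact hS' Q) (p + 1) p rfl
  rw [← cancel_mono ((seq_shortExact hS' Q).δ (p + 1) p rfl), zero_comp]
  refine hδ.symm.trans ?_
  show (seq_shortExact hS Q).δ (p + 1) p rfl ≫ hmap Q τ.τ₁ p = 0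
  rw [← hr, ← Category.assoc τ.τ₁, τ.comm₁₂, Category.assoc, hmap_comp,
    show hmap Q S.f p = HomologicalComplex.homologyMap (seq S Q).f p from rfl,
    (seq_shortExact hS Q).δ_comp_assoc, zero_comp]

variable {R : Type u} [CommRing R]

/-- A cycle is sent to a boundary by a map that vanishes on homology. -/
theorem exists_preimage {K L : ChainComplex (ModuleCat.{u} R) ℕ} (φ : K ⟶ L) (j : ℕ)
    (h : HomologicalComplex.homologyMap φ (j + 1) = 0) (z : K.X (j + 1)) (hz : (K.d (j + 1) j).hom z = 0) :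
    ∃ w : L.X (j + 2), (L.d (j + 2) (j + 1)).hom w = (φ.f (j + 1)).hom z := by
  obtain ⟨c, hc⟩ : ∃ c : K.cycles (j + 1), K.iCycles (j + 1) c = z := by
    let T := ShortComplex.mk (K.iCycles (j + 1)) (K.d (j + 1) j) (K.iCycles_d _ _)
    have hT : T.Exact := T.exact_of_f_is_kernel (K.cyclesIsKernel (j + 1) j (by simp))
    rw [ShortComplex.moduleCat_exact_iff] at hT
    exact hT z hz
  have h0 : L.homologyπ (j + 1) (HomologicalComplex.cyclesMap φ (j + 1) c) = 0 := by
    rw [← ConcreteCategory.comp_apply, ← HomologicalComplex.homologyπ_naturality, h, comp_zero]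
    rfl
  let T := ShortComplex.mk (L.toCycles (j + 2) (j + 1)) (L.homologyπ (j + 1)) (L.toCycles_comp_homologyπ _ _)
  have hT : T.Exact := T.exact_of_g_is_cokernel (L.homologyIsCokernel (j + 2) (j + 1) (by simp))
  rw [ShortComplex.moduleCat_exact_iff] at hT
  obtain ⟨w, hw⟩ := hT _ h0
  refine ⟨w, ?_⟩
  have h1 := congrArg (fun v => L.iCycles (j + 1) v) hw
  rw [← ConcreteCategory.comp_apply, show T.f ≫ L.iCycles (j + 1) = L.d (j + 2) (j + 1) from L.toCycles_i _ _,
    ← ConcreteCategory.comp_apply, HomologicalComplex.cyclesMap_i, ConcreteCategory.comp_apply, hc] at h1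
  exact h1

end H1TorUnif
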