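import Groth.Agent.H1TorUnif.Pd
import Groth.Agent.H1TorUnif.AR
import Groth.Agent.H1TorUnif.Shift

/-! Uniform vanishing of `Tor_{t+1}(−, A/I^n) → Tor_{t+1}(−, A/I^{n-c})` for pulled back ideals. -/

set_option autoImplicit false
set_option backward.isDefEq.respectTransparency false
set_option backward.isDefEq.respectTransparency.types false
set_option linter.style.haveILetI false

universe u

open CategoryTheory Limits TensorProduct

namespace H1TorUnif

open Groth.Agent.TorBridge KerNat H1TorAR Groth.Agent.RegLoc6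

variable {P A : Type u} [CommRing P] [CommRing A] [Algebra P A] (J : Ideal P)

/-- The resolution of `P/J^n`. -/
noncomputable abbrev G (n : ℕ) : ProjectiveResolution (ModuleCat.of P (P ⧸ J ^ n)) :=
  projectiveResolution (ModuleCat.of P (P ⧸ J ^ n))

/-- Its differential. -/
noncomputable abbrev dG (n j : ℕ) : (G J n).complex.X (j + 1) →ₗ[P] (G J n).complex.X j :=
  ((G J n).complex.d (j + 1) j).hom

/-- The chains over `A`. -/
noncomputable abbrev C (n j : ℕ) : ModuleCat.{u} A := ModuleCat.of A (A ⊗[P] (G J n).complex.X j)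

/-- Their augmentation target. -/
noncomputable abbrev T (n : ℕ) : ModuleCat.{u} A := ModuleCat.of A (A ⊗[P] (P ⧸ J ^ n))

/-- Its differential, over `A`. -/
noncomputable abbrev D (n j : ℕ) : C (A := A) J n (j + 1) →ₗ[A] C (A := A) J n j :=
  (dG J n j).baseChange A

/-- The augmentation, over `A`. -/
noncomputable abbrev aug (n : ℕ) : C (A := A) J n 0 →ₗ[A] T (A := A) J n :=
  ((G J n).π.f 0).hom.baseChange A

/-- Boundaries. -/
noncomputable abbrev B (n j : ℕ) : ModuleCat.{u} A := ModuleCat.of A (LinearMap.range (D (A := A) J n j))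

/-- Cycles. -/
noncomputable abbrev Z (n j : ℕ) : ModuleCat.{u} A := ModuleCat.of A (LinearMap.ker (D (A := A) J n j))

variable {J}

theorem D_comm {n k : ℕ} (φ : (G J n).complex ⟶ (G J k).complex) (j : ℕ)
    (x : C (A := A) J n (j + 1)) :
    (φ.f j).hom.baseChange A (D J n j x) = D J k j ((φ.f (j + 1)).hom.baseChange A x) := by
  have := congrArg (fun f => f.hom) (φ.comm (j + 1) j)
  simp only [ModuleCat.hom_comp] at this
  rw [← LinearMap.comp_apply, ← LinearMap.comp_apply, ← LinearMap.baseChange_comp, ← LinearMap.baseChange_comp, this]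

theorem D_D (n j : ℕ) (x : C (A := A) J n (j + 2)) : D J n j (D J n (j + 1) x) = 0 := by
  rw [← LinearMap.comp_apply, ← LinearMap.baseChange_comp,
    show dG J n j ∘ₗ dG J n (j + 1) = 0 from by
      rw [← ModuleCat.hom_comp, (G J n).complex.d_comp_d]; rfl,
    LinearMap.baseChange_zero, LinearMap.zero_apply]

/-- The map on boundaries. -/
noncomputable def bMap {n k : ℕ} (φ : (G J n).complex ⟶ (G J k).complex) (j : ℕ) :
    LinearMap.range (D (A := A) J n j) →ₗ[A] LinearMap.range (D (A := A) J k j) :=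
  LinearMap.restrict (((φ.f j).hom.baseChange A : C (A := A) J n j →ₗ[A] C (A := A) J k j)) fun y hy => by
    obtain ⟨x, rfl⟩ := hy
    exact ⟨_, (D_comm φ j x).symm⟩

/-- The map on cycles. -/
noncomputable def zMap {n k : ℕ} (φ : (G J n).complex ⟶ (G J k).complex) (j : ℕ) :
    LinearMap.ker (D (A := A) J n j) →ₗ[A] LinearMap.ker (D (A := A) J k j) :=
  LinearMap.restrict (((φ.f (j + 1)).hom.baseChange A : C (A := A) J n (j + 1) →ₗ[A] C (A := A) J k (j + 1))) fun x hx => by
    rw [LinearMap.mem_ker, ← D_comm φ j x, LinearMap.mem_ker.1 hx, map_zero]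

/-- The maps as morphisms. -/
noncomputable abbrev zH {n k : ℕ} (φ : (G J n).complex ⟶ (G J k).complex) (j : ℕ) :
    Z (A := A) J n j ⟶ Z (A := A) J k j := ModuleCat.ofHom (zMap φ j)

/-- The maps as morphisms. -/
noncomputable abbrev bH {n k : ℕ} (φ : (G J n).complex ⟶ (G J k).complex) (j : ℕ) :
    B (A := A) J n j ⟶ B (A := A) J k j := ModuleCat.ofHom (bMap φ j)

/-- The maps as morphisms. -/
noncomputable abbrev cH {n k : ℕ} (φ : (G J n).complex ⟶ (G J k).complex) (j : ℕ) :
    C (A := A) J n j ⟶ C (A := A) J k j := ModuleCat.ofHom ((φ.f j).hom.baseChange A)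

variable (J)

/-- Cycles, chains, boundaries. -/
noncomputable abbrev zSC (n j : ℕ) : ShortComplex (ModuleCat.{u} A) :=
  ShortComplex.mk (X₁ := Z (A := A) J n j) (X₂ := C (A := A) J n (j + 1)) (X₃ := B (A := A) J n j)
    (ModuleCat.ofHom (LinearMap.ker (D (A := A) J n j)).subtype)
    (ModuleCat.ofHom (D (A := A) J n j).rangeRestrict)
    (ModuleCat.hom_ext (LinearMap.ext fun (x : LinearMap.ker (D (A := A) J n j)) =>
      Subtype.ext (LinearMap.mem_ker.1 x.2)))

theorem shortExact_zSC (n j : ℕ) : (zSC (A := A) J n j).ShortExact :=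
  { exact := (ShortComplex.ShortExact.moduleCat_exact_iff_function_exact _).2 fun x => by
      refine ⟨fun hx => ⟨⟨x, LinearMap.mem_ker.2 (congrArg Subtype.val hx)⟩, rfl⟩, ?_⟩
      rintro ⟨y, rfl⟩
      exact Subtype.ext (LinearMap.mem_ker.1 y.2)
    mono_f := (ModuleCat.mono_iff_injective _).2 Subtype.val_injective
    epi_g := (ModuleCat.epi_iff_surjective _).2 (LinearMap.surjective_rangeRestrict _) }

instance flat_chains (n j : ℕ) : Module.Flat A (A ⊗[P] (G J n).complex.X j) := by
  haveI : Module.Projective P ((G J n).complex.X j) := (IsProjective.iff_projective _).2 ((G J n).projective j)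
  infer_instance

/-- The morphism of sequences of a chain map. -/
noncomputable def zHom {n k : ℕ} (φ : (G J n).complex ⟶ (G J k).complex) (j : ℕ) :
    zSC (A := A) J n j ⟶ zSC (A := A) J k j where
  τ₁ := zH φ j
  τ₂ := cH φ (j + 1)
  τ₃ := bH φ j
  comm₁₂ := rfl
  comm₂₃ := ModuleCat.hom_ext (LinearMap.ext fun x => Subtype.ext (D_comm φ j x).symm)

/-- The projection of `P/J^n` to `P/J^k`. -/
theorem exists_lift {n k : ℕ} (h : J ^ n ≤ J ^ k) :
    ∃ φ : (G J n).complex ⟶ (G J k).complex, IsLift J h (G J n) (G J k) φ :=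
  ⟨ProjectiveResolution.lift (ModuleCat.ofHom (Submodule.factor h)) _ _,
    ProjectiveResolution.lift_commutes_zero _ _ _⟩

theorem isLift_comp {n m k : ℕ} {h : J ^ n ≤ J ^ m} {h' : J ^ m ≤ J ^ k}
    {φ : (G J n).complex ⟶ (G J m).complex} {ψ : (G J m).complex ⟶ (G J k).complex}
    (hφ : IsLift J h (G J n) (G J m) φ) (hψ : IsLift J h' (G J m) (G J k) ψ) :
    IsLift J (h.trans h') (G J n) (G J k) (φ ≫ ψ) := by
  unfold IsLift at *
  rw [HomologicalComplex.comp_f, Category.assoc, hψ, reassoc_of% hφ]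
  congr 1
  refine ModuleCat.hom_ext (LinearMap.ext fun x => ?_)
  obtain ⟨x, rfl⟩ := Submodule.Quotient.mk_surjective _ x
  rfl

variable [IsNoetherianRing P] [Module.Finite P A]

/-- Cycles move to boundaries, uniformly. -/
theorem exists_zMap_range (j : ℕ) : ∃ c : ℕ, ∀ (k : ℕ) (h : J ^ (k + c) ≤ J ^ k)
    (φ : (G J (k + c)).complex ⟶ (G J k).complex), IsLift J h (G J (k + c)) (G J k) φ →
    ∀ x : LinearMap.ker (D (A := A) J (k + c) j),
      (φ.f (j + 1)).hom.baseChange A x ∈ LinearMap.range (D (A := A) J k (j + 1)) := by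
  obtain ⟨c, hc⟩ := homology_uniform J j (ModuleCat.of P A) (inferInstanceAs (Module.Finite P A))
  refine ⟨c, fun k h φ hφ x => ?_⟩
  obtain ⟨w, hw⟩ := exists_preimage
    (((ten (ModuleCat.of P A)).mapHomologicalComplex _).map φ) j (hc k h _ _ φ hφ) x.1 (by
      have := LinearMap.mem_ker.1 x.2
      exact this)
  exact ⟨w, hw⟩

variable (t : ℕ) (hpd : ∀ n, PdLE P t (P ⧸ J ^ n))
include hpd

omit [IsNoetherianRing P] [Module.Finite P A] in
theorem pdLE_range : ∀ (j i : ℕ), j + i + 1 = t → ∀ n, PdLE P i (LinearMap.range (dG J n j))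
  | 0, i, hi, n => by
    haveI : Module.Projective P ((G J n).complex.X 0) := (IsProjective.iff_projective _).2 ((G J n).projective 0)
    have hs : Function.Surjective ((G J n).π.f 0).hom :=
      (ModuleCat.epi_iff_surjective ((G J n).π.f 0)).1 inferInstance
    have h := (ShortComplex.ShortExact.moduleCat_exact_iff_function_exact _).1 (G J n).exact₀
    refine pdLE_of_equiv (LinearEquiv.ofEq _ _ (LinearMap.exact_iff.1 h)) ?_
    exact pdLE_ker _ hs (by rw [show i + 1 = t by omega]; exact hpd n) (pdLE_of_projective i)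
  | j + 1, i, hi, n => by
    haveI : Module.Projective P ((G J n).complex.X (j + 1)) :=
      (IsProjective.iff_projective _).2 ((G J n).projective (j + 1))
    have h := (ShortComplex.ShortExact.moduleCat_exact_iff_function_exact _).1 ((G J n).exact_succ j)
    refine pdLE_of_equiv (LinearEquiv.ofEq _ _ ?_)
      (pdLE_ker (dG J n j).rangeRestrict (LinearMap.surjective_rangeRestrict _) (pdLE_range j (i + 1) (by omega) n)
        (pdLE_of_projective i))
    rw [LinearMap.ker_rangeRestrict]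
    exact LinearMap.exact_iff.1 h

omit [IsNoetherianRing P] [Module.Finite P A] in
/-- Boundaries in the top degree are a retract. -/
theorem exists_retract (j : ℕ) (hj : j + 1 = t) (n : ℕ) :
    ∃ r : A ⊗[P] (G J n).complex.X (j + 1) →ₗ[A] LinearMap.ker (D (A := A) J n j),
      ∀ x, (r (D J n (j + 1) x) : A ⊗[P] (G J n).complex.X (j + 1)) = D J n (j + 1) x := by
  haveI : Module.Projective P (LinearMap.range (dG J n j)) := pdLE_zero_iff.1 (pdLE_range J t hpd j 0 (by omega) n)
  obtain ⟨s, hs⟩ := (dG J n j).rangeRestrict.exists_rightInverse_of_surjective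
    (LinearMap.range_rangeRestrict _)
  let ρ : (G J n).complex.X (j + 1) →ₗ[P] (G J n).complex.X (j + 1) := LinearMap.id - s ∘ₗ (dG J n j).rangeRestrict
  have h1 : dG J n j ∘ₗ ρ = 0 := LinearMap.ext fun x => by
    have := congrArg Subtype.val (DFunLike.congr_fun hs ((dG J n j).rangeRestrict x))
    simp only [LinearMap.comp_apply, LinearMap.id_apply] at this
    rw [LinearMap.comp_apply, LinearMap.sub_apply, LinearMap.id_apply, map_sub, LinearMap.comp_apply,
      LinearMap.zero_apply]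
    exact sub_eq_zero.2 this.symm
  have h2 : ρ ∘ₗ dG J n (j + 1) = dG J n (j + 1) := LinearMap.ext fun x => by
    have h0 : (dG J n j).rangeRestrict (dG J n (j + 1) x) = 0 := Subtype.ext (by
      show dG J n j (dG J n (j + 1) x) = 0
      rw [← LinearMap.comp_apply, ← ModuleCat.hom_comp, (G J n).complex.d_comp_d]; rfl)
    rw [LinearMap.comp_apply, LinearMap.sub_apply, LinearMap.id_apply, LinearMap.comp_apply, h0, map_zero, sub_zero]
  refine ⟨(ρ.baseChange A).codRestrict _ fun x => ?_, fun x => ?_⟩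
  · rw [LinearMap.mem_ker, ← LinearMap.comp_apply, ← LinearMap.baseChange_comp, h1, LinearMap.baseChange_zero,
      LinearMap.zero_apply]
  · show ρ.baseChange A (D J n (j + 1) x) = _
    rw [← LinearMap.comp_apply, ← LinearMap.baseChange_comp, h2]

/-- The staircase. -/
theorem exists_bMap_zero : ∀ (q j : ℕ), j + q + 1 = t → ∃ e : ℕ, ∀ k : ℕ,
    ∃ (φ : (G J (k + e)).complex ⟶ (G J k).complex) (h : J ^ (k + e) ≤ J ^ k),
      IsLift J h (G J (k + e)) (G J k) φ ∧
      ∀ {Y : ModuleCat.{u} A} (Q : ProjectiveResolution Y),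
        hmap Q (bH (A := A) φ j) (q + 1) = 0
  | 0, j, hj => by
    obtain ⟨c, hc⟩ := exists_zMap_range (A := A) J j
    refine ⟨c, fun k => ?_⟩
    have h : J ^ (k + c) ≤ J ^ k := Ideal.pow_le_pow_right (Nat.le_add_right k c)
    obtain ⟨φ, hφ⟩ := exists_lift J h
    refine ⟨φ, h, hφ, fun {Y} Q => ?_⟩
    obtain ⟨r, hr⟩ := exists_retract (A := A) J t hpd j (by omega) k
    refine shift_retract Q (shortExact_zSC J (k + c) j) (shortExact_zSC J k j) (zHom J φ j) 0 (ModuleCat.ofHom r) ?_
    refine ModuleCat.hom_ext (LinearMap.ext fun x => Subtype.ext ?_)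
    obtain ⟨w, hw⟩ := hc k h φ hφ x
    show (r ((φ.f (j + 1)).hom.baseChange A x.1) : A ⊗[P] (G J k).complex.X (j + 1)) = _
    rw [← hw, hr]
    exact hw
  | q + 1, j, hj => by
    obtain ⟨e, he⟩ := exists_bMap_zero q (j + 1) (by omega)
    obtain ⟨c, hc⟩ := exists_zMap_range (A := A) J j
    refine ⟨e + c, fun k => ?_⟩
    obtain ⟨ψ, hψh, hψ, hψ0⟩ := he k
    rw [← Nat.add_assoc]
    have hφh : J ^ (k + e + c) ≤ J ^ (k + e) := Ideal.pow_le_pow_right (Nat.le_add_right _ c)
    obtain ⟨φ, hφ⟩ := exists_lift J hφh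
    refine ⟨φ ≫ ψ, hφh.trans hψh, isLift_comp J hφ hψ, fun {Y} Q => ?_⟩
    refine shift Q (shortExact_zSC J (k + e + c) j) (shortExact_zSC J k j) (zHom J (φ ≫ ψ) j) (q + 1) ?_
    let ρ : LinearMap.ker (D (A := A) J (k + e + c) j) →ₗ[A] LinearMap.range (D (A := A) J (k + e) (j + 1)) :=
      (((φ.f (j + 1)).hom.baseChange A).domRestrict _).codRestrict _ fun x => hc (k + e) hφh φ hφ x
    let ι : LinearMap.range (D (A := A) J k (j + 1)) →ₗ[A] LinearMap.ker (D (A := A) J k j) :=
      Submodule.inclusion fun y ⟨x, hx⟩ => by rw [LinearMap.mem_ker, ← hx, D_D]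
    rw [show (zHom (A := A) J (φ ≫ ψ) j).τ₁ =
        (ModuleCat.ofHom ρ : Z (A := A) J _ j ⟶ B (A := A) J _ (j + 1)) ≫ bH ψ (j + 1) ≫ (ModuleCat.ofHom ι : B (A := A) J k (j + 1) ⟶ Z (A := A) J k j) by
      refine ModuleCat.hom_ext (LinearMap.ext fun x => Subtype.ext ?_)
      show ((φ ≫ ψ).f (j + 1)).hom.baseChange A x.1 = _
      rw [HomologicalComplex.comp_f, ModuleCat.hom_comp, LinearMap.baseChange_comp]
      rfl, hmap_comp, hmap_comp, hψ0 Q, zero_comp, comp_zero]

/-- The augmented sequence. -/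
noncomputable abbrev augSC (n : ℕ) : ShortComplex (ModuleCat.{u} A) :=
  ShortComplex.mk (X₁ := B (A := A) J n 0) (X₂ := C (A := A) J n 0) (X₃ := T (A := A) J n)
    (ModuleCat.ofHom (LinearMap.range (D (A := A) J n 0)).subtype) (ModuleCat.ofHom (aug (A := A) J n))
    (ModuleCat.hom_ext (LinearMap.ext fun (z : LinearMap.range (D (A := A) J n 0)) => by
      obtain ⟨y, x, hx⟩ := z
      show aug J n y = 0
      rw [← hx, ← LinearMap.comp_apply, ← LinearMap.baseChange_comp, ← ModuleCat.hom_comp,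
        (G J n).complex_d_comp_π_f_zero]
      simp))

/-- Uniform vanishing in degree `t + 1`, for `A ⊗ P/J^n`. -/
theorem exists_tensor_zero : ∃ c : ℕ, ∀ (k : ℕ) (h : J ^ (k + c) ≤ J ^ k) {Y : ModuleCat.{u} A}
    (Q : ProjectiveResolution Y),
    hmap Q (ModuleCat.ofHom ((Submodule.factor h : (P ⧸ J ^ (k + c)) →ₗ[P] (P ⧸ J ^ k)).baseChange A)) (t + 1) = 0 := by
  have hex : ∀ n, (augSC (A := A) J n).ShortExact := fun n =>
    { exact := (ShortComplex.ShortExact.moduleCat_exact_iff_function_exact _).2 fun x => by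
        have h := (ShortComplex.ShortExact.moduleCat_exact_iff_function_exact _).1 (G J n).exact₀
        have h' := lTensor_exact A h ((ModuleCat.epi_iff_surjective ((G J n).π.f 0)).1 inferInstance)
        refine (h' x).trans ⟨?_, ?_⟩
        · rintro ⟨y, hy⟩; exact ⟨⟨x, y, hy⟩, rfl⟩
        · rintro ⟨⟨z, y, hy⟩, rfl⟩; exact ⟨y, hy⟩
      mono_f := (ModuleCat.mono_iff_injective _).2 Subtype.val_injective
      epi_g := (ModuleCat.epi_iff_surjective _).2
        (LinearMap.lTensor_surjective A ((ModuleCat.epi_iff_surjective ((G J n).π.f 0)).1 inferInstance)) }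
  let mk : ∀ {n k : ℕ} {h : J ^ n ≤ J ^ k} (φ : (G J n).complex ⟶ (G J k).complex),
      IsLift J h (G J n) (G J k) φ → (augSC (A := A) J n ⟶ augSC (A := A) J k) :=
    fun {n k h} φ hφ =>
    { τ₁ := bH φ 0
      τ₂ := cH φ 0
      τ₃ := ModuleCat.ofHom (X := A ⊗[P] (P ⧸ J ^ n)) (Y := A ⊗[P] (P ⧸ J ^ k)) ((Submodule.factor h : (P ⧸ J ^ n) →ₗ[P] (P ⧸ J ^ k)).baseChange A)
      comm₁₂ := rfl
      comm₂₃ := ModuleCat.hom_ext (by
        have := congrArg (fun f => f.hom) hφ
        simp only [ModuleCat.hom_comp] at this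
        show aug J k ∘ₗ (φ.f 0).hom.baseChange A =
          (Submodule.factor h : (P ⧸ J ^ n) →ₗ[P] (P ⧸ J ^ k)).baseChange A ∘ₗ aug J n
        rw [← LinearMap.baseChange_comp, ← LinearMap.baseChange_comp]
        exact congrArg _ this) }
  rcases Nat.eq_zero_or_pos t with ht | ht
  · refine ⟨0, fun k h {Y} Q => ?_⟩
    obtain ⟨φ, hφ⟩ := exists_lift J h
    rw [ht]
    haveI : Module.Projective P (P ⧸ J ^ k) := pdLE_zero_iff.1 (ht ▸ hpd k)
    have hsurj : Function.Surjective ((G J k).π.f 0).hom :=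
      (ModuleCat.epi_iff_surjective ((G J k).π.f 0)).1 inferInstance
    obtain ⟨s, hs⟩ := LinearMap.exists_rightInverse_of_surjective
      (((G J k).π.f 0).hom : (G J k).complex.X 0 →ₗ[P] P ⧸ J ^ k) (LinearMap.range_eq_top.2 hsurj)
    let ρ : (G J k).complex.X 0 →ₗ[P] (G J k).complex.X 0 := LinearMap.id - s ∘ₗ ((G J k).π.f 0).hom
    have h1 : aug (A := A) J k ∘ₗ ρ.baseChange A = 0 := by
      rw [← LinearMap.baseChange_comp, show ((G J k).π.f 0).hom ∘ₗ ρ = 0 by
        refine LinearMap.ext fun x => ?_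
        have := DFunLike.congr_fun hs (((G J k).π.f 0).hom x)
        simp only [LinearMap.comp_apply, LinearMap.id_apply] at this
        rw [LinearMap.comp_apply, LinearMap.sub_apply, LinearMap.id_apply, map_sub, LinearMap.comp_apply,
          LinearMap.zero_apply]
        exact sub_eq_zero.2 this.symm, LinearMap.baseChange_zero]
    have h2 : ρ.baseChange A ∘ₗ D J k 0 = D J k 0 := by
      rw [← LinearMap.baseChange_comp]
      congr 1
      refine LinearMap.ext fun x => ?_
      have h0 : ((G J k).π.f 0).hom (dG J k 0 x) = 0 := by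
        rw [← LinearMap.comp_apply, ← ModuleCat.hom_comp, (G J k).complex_d_comp_π_f_zero]; rfl
      rw [LinearMap.comp_apply, LinearMap.sub_apply, LinearMap.id_apply, LinearMap.comp_apply, h0, map_zero, sub_zero]
    let r : C (A := A) J k 0 →ₗ[A] LinearMap.range (D (A := A) J k 0) :=
      (ρ.baseChange A).codRestrict _ fun x => by
        have he : Function.Exact (D (A := A) J k 0) (aug (A := A) J k) :=
          lTensor_exact A ((ShortComplex.ShortExact.moduleCat_exact_iff_function_exact _).1 (G J k).exact₀) hsurj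
        exact (he _).1 (DFunLike.congr_fun h1 x)
    refine shift_retract Q (hex (k + 0)) (hex k) (mk φ hφ) 0 (ModuleCat.ofHom r) ?_
    refine ModuleCat.hom_ext (LinearMap.ext fun x => Subtype.ext ?_)
    obtain ⟨y, hy⟩ := (bMap (A := A) φ 0 x).2
    show ρ.baseChange A ((bMap (A := A) φ 0 x).1) = (bMap (A := A) φ 0 x).1
    rw [← hy, ← LinearMap.comp_apply, h2]
  · obtain ⟨q, rfl⟩ : ∃ q, t = q + 1 := ⟨t - 1, by omega⟩
    obtain ⟨e, he⟩ := exists_bMap_zero (A := A) J (q + 1) hpd q 0 (by omega)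
    refine ⟨e, fun k h {Y} Q => ?_⟩
    obtain ⟨φ, h', hφ, hφ0⟩ := he k
    exact shift Q (hex (k + e)) (hex k) (mk φ hφ) (q + 1) (hφ0 Q)

/-- Uniform vanishing in degree `t + 1`, for `A/(J A)^n`. -/
theorem exists_hmap_factor_zero (I : Ideal A) (hI : J.map (algebraMap P A) = I) :
    ∃ c : ℕ, ∀ (k : ℕ) (h : I ^ (k + c) ≤ I ^ k) {Y : ModuleCat.{u} A} (Q : ProjectiveResolution Y),
      hmap Q (ModuleCat.ofHom (Submodule.factor h)) (t + 1) = 0 := by
  subst hI
  obtain ⟨c, hc⟩ := exists_tensor_zero (A := A) J t hpd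
  refine ⟨c, fun k h {Y} Q => ?_⟩
  have hP : J ^ (k + c) ≤ J ^ k := Ideal.pow_le_pow_right (Nat.le_add_right k c)
  have hone : ∀ (n : ℕ) (a : A), a ∈ J.map (algebraMap P A) ^ n →
      a ⊗ₜ[P] (Submodule.Quotient.mk 1 : P ⧸ J ^ n) = 0 := by
    intro n a ha
    rw [← Ideal.map_pow] at ha
    induction ha using Submodule.span_induction with
    | mem x hx =>
      obtain ⟨p, hp, rfl⟩ := hx
      rw [Algebra.algebraMap_eq_smul_one, TensorProduct.smul_tmul, ← Submodule.Quotient.mk_smul,
        (Submodule.Quotient.mk_eq_zero _).2 (by simpa using hp), TensorProduct.tmul_zero]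
    | zero => exact TensorProduct.zero_tmul _ _
    | add x y _ _ hx hy => rw [TensorProduct.add_tmul, hx, hy, add_zero]
    | smul b x _ hx =>
      have := congrArg (b • ·) hx
      simpa [TensorProduct.smul_tmul'] using this
  let u : (A ⧸ J.map (algebraMap P A) ^ (k + c)) →ₗ[A] A ⊗[P] (P ⧸ J ^ (k + c)) :=
    Submodule.liftQ _ (LinearMap.toSpanSingleton A _ ((1 : A) ⊗ₜ[P] Submodule.Quotient.mk 1)) fun a ha => by
      rw [LinearMap.mem_ker, LinearMap.toSpanSingleton_apply, TensorProduct.smul_tmul', smul_eq_mul, mul_one]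
      exact hone _ a ha
  let l : (P ⧸ J ^ k) →ₗ[P] (A ⧸ J.map (algebraMap P A) ^ k) :=
    Submodule.liftQ _ (LinearMap.toSpanSingleton P _ (Submodule.Quotient.mk 1)) fun p hp => by
      rw [LinearMap.mem_ker, LinearMap.toSpanSingleton_apply, ← Submodule.Quotient.mk_smul, Submodule.Quotient.mk_eq_zero,
        ← Algebra.algebraMap_eq_smul_one, ← Ideal.map_pow]
      exact Ideal.mem_map_of_mem _ hp
  rw [show ModuleCat.ofHom (Submodule.factor h) = ModuleCat.ofHom u ≫
      ModuleCat.ofHom ((Submodule.factor hP : (P ⧸ J ^ (k + c)) →ₗ[P] (P ⧸ J ^ k)).baseChange A) ≫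
        ModuleCat.ofHom (l.liftBaseChange A) by
    refine ModuleCat.hom_ext (LinearMap.ext fun x => ?_)
    obtain ⟨a, rfl⟩ := Submodule.Quotient.mk_surjective _ x
    show Submodule.Quotient.mk a = l.liftBaseChange A
      ((Submodule.factor hP : (P ⧸ J ^ (k + c)) →ₗ[P] (P ⧸ J ^ k)).baseChange A (a • ((1 : A) ⊗ₜ[P] Submodule.Quotient.mk 1)))
    rw [map_smul, map_smul, LinearMap.baseChange_tmul, LinearMap.liftBaseChange_tmul,
      show (Submodule.factor hP) (Submodule.Quotient.mk (1 : P)) = Submodule.Quotient.mk 1 from Submodule.factor_mk hP 1]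
    show _ = a • ((1 : A) • ((1 : P) • Submodule.Quotient.mk (1 : A)))
    rw [one_smul, one_smul, ← Submodule.Quotient.mk_smul, smul_eq_mul, mul_one],
    hmap_comp, hmap_comp, hc k hP Q, zero_comp, comp_zero]

end H1TorUnif
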