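import Groth.Agent.RegLoc6.Pd
import Mathlib

/-! `A[x_1,…,x_t]/(x)^n` has projective dimension at most `t`. -/

set_option autoImplicit false

universe u

namespace H1TorUnif

open CategoryTheory Groth.Agent.RegLoc6 MvPolynomial

variable {R : Type u} [CommRing R]

theorem pdLE_of_subsingleton (M : Type u) [AddCommGroup M] [Module R M] [Subsingleton M] (n : ℕ) :
    PdLE R n M :=
  haveI : Module.Free R M := Module.Free.of_subsingleton R M
  pdLE_of_projective n

theorem pdLE_middle {M N L : Type u} [AddCommGroup M] [Module R M] [AddCommGroup N] [Module R N]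
    [AddCommGroup L] [Module R L] (f : M →ₗ[R] N) (g : N →ₗ[R] L) (hf : Function.Injective f)
    (hg : Function.Surjective g) (h : Function.Exact f g) {n : ℕ} (hM : PdLE R n M) (hL : PdLE R n L) :
    PdLE R n N :=
  have hS : (ShortComplex.mk (ModuleCat.ofHom f) (ModuleCat.ofHom g)
      (ModuleCat.hom_ext (LinearMap.ext h.apply_apply_eq_zero))).ShortExact :=
    { exact := (ShortComplex.ShortExact.moduleCat_exact_iff_function_exact _).2 h
      mono_f := (ModuleCat.mono_iff_injective _).2 hf
      epi_g := (ModuleCat.epi_iff_surjective _).2 hg }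
  hS.hasProjectiveDimensionLT_X₂ (n + 1) hM hL

theorem pdLE_pi {M : Type u} [AddCommGroup M] [Module R M] {n : ℕ} (h : PdLE R n M) :
    ∀ k : ℕ, PdLE R n (Fin k → M)
  | 0 => pdLE_of_subsingleton _ n
  | k + 1 => by
    let g : (Fin (k + 1) → M) →ₗ[R] (Fin k → M) := LinearMap.pi fun i => LinearMap.proj i.succ
    let f : M →ₗ[R] (Fin (k + 1) → M) := LinearMap.single R (fun _ => M) 0
    refine pdLE_middle f g (fun a b hab => Pi.single_injective (M := fun _ => M) 0 hab) (fun v => ⟨Fin.cons 0 v, funext fun i => by simp [g]⟩)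
      (fun v => ⟨fun hv => ⟨v 0, funext fun i => ?_⟩, ?_⟩) h (pdLE_pi h k)
    · refine Fin.cases ?_ (fun i => ?_) i
      · simp [f]
      · simpa [f, g] using (congrFun hv i).symm
    · rintro ⟨m, rfl⟩
      funext i
      simp [f, g]

variable (A : Type u) [CommRing A] (t : ℕ)

/-- The ideal of the first `j` variables. -/
noncomputable def Jv (j : ℕ) : Ideal (MvPolynomial (Fin t) A) :=
  Ideal.span (MvPolynomial.X '' {i : Fin t | i.1 < j})

theorem pdLE_quotient_Jv : ∀ j, j ≤ t → PdLE (MvPolynomial (Fin t) A) j (MvPolynomial (Fin t) A ⧸ Jv A t j)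
  | 0, _ => pdLE_of_equiv (Submodule.quotEquivOfEqBot (Jv A t 0) (by simp [Jv])).symm (pdLE_of_projective 0)
  | j + 1, hj => by
    let x : MvPolynomial (Fin t) A := X ⟨j, by omega⟩
    let J := Jv A t j
    have hle : J ≤ Jv A t (j + 1) := Ideal.span_mono (Set.image_mono fun i (hi : i.1 < j) => Nat.lt_succ_of_lt hi)
    let g := Submodule.factor hle
    let μ : (MvPolynomial (Fin t) A ⧸ J) →ₗ[MvPolynomial (Fin t) A] (MvPolynomial (Fin t) A ⧸ J) :=
      x • LinearMap.id
    have hμ : Function.Injective μ := by
      refine (injective_iff_map_eq_zero μ).2 fun v hv => ?_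
      obtain ⟨f, rfl⟩ := Submodule.Quotient.mk_surjective _ v
      change Submodule.Quotient.mk (x * f) = 0 at hv
      rw [Submodule.Quotient.mk_eq_zero] at hv ⊢
      show f ∈ Ideal.span _
      rw [MvPolynomial.mem_ideal_span_X_image]
      intro d hd
      have hv' : x * f ∈ Ideal.span (MvPolynomial.X '' {i : Fin t | i.1 < j}) := hv
      rw [MvPolynomial.mem_ideal_span_X_image] at hv'
      obtain ⟨i, hi, hne⟩ := hv' (Finsupp.single ⟨j, by omega⟩ 1 + d) (by
        rw [MvPolynomial.mem_support_iff, MvPolynomial.coeff_X_mul]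
        exact MvPolynomial.mem_support_iff.1 hd)
      refine ⟨i, hi, ?_⟩
      have : (⟨j, by omega⟩ : Fin t) ≠ i := fun h => by
        have := congrArg Fin.val h; simp at this; exact absurd hi (by simp [← this])
      simpa [Finsupp.single_eq_of_ne' this] using hne
    have hrange : LinearMap.range μ = LinearMap.ker g := by
      have hspan : Jv A t (j + 1) = J ⊔ Ideal.span {x} := by
        refine le_antisymm (Ideal.span_le.2 ?_) (sup_le hle ((Ideal.span_singleton_le_iff_mem _).2
          (Ideal.subset_span ⟨⟨j, by omega⟩, Nat.lt_succ_self j, rfl⟩)))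
        rintro _ ⟨i, hi, rfl⟩
        rcases Nat.lt_or_ge i.1 j with h | h
        · exact Ideal.mem_sup_left (Ideal.subset_span ⟨i, h, rfl⟩)
        · have : i = ⟨j, by omega⟩ := Fin.ext (by simp only [Set.mem_setOf_eq] at hi; show i.1 = j; omega)
          exact Ideal.mem_sup_right (by rw [this]; exact Ideal.mem_span_singleton_self _)
      ext v
      obtain ⟨f, rfl⟩ := Submodule.Quotient.mk_surjective _ v
      rw [LinearMap.mem_ker, show g (Submodule.Quotient.mk f) = Submodule.Quotient.mk f from Submodule.factor_mk hle f,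
        Submodule.Quotient.mk_eq_zero]
      constructor
      · rintro ⟨w, hw⟩
        obtain ⟨q, rfl⟩ := Submodule.Quotient.mk_surjective _ w
        change Submodule.Quotient.mk (x * q) = Submodule.Quotient.mk f at hw
        rw [Submodule.Quotient.eq] at hw
        rw [hspan, show f = x * q + -(x * q - f) by ring]
        exact add_mem (Ideal.mem_sup_right (Ideal.mul_mem_right _ _ (Ideal.mem_span_singleton_self x)))
          (Ideal.mem_sup_left (neg_mem hw))
      · intro hf
        rw [hspan] at hf
        obtain ⟨a, ha, b, hb, rfl⟩ := Submodule.mem_sup.1 hf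
        obtain ⟨c, rfl⟩ := Ideal.mem_span_singleton'.1 hb
        refine ⟨Submodule.Quotient.mk c, ?_⟩
        show Submodule.Quotient.mk (x * c) = _
        rw [Submodule.Quotient.eq, show x * c - (a + c * x) = -a by ring]
        exact neg_mem ha
    exact pdLE_succ_of_ker g (Submodule.factor_surjective hle)
      (pdLE_of_equiv ((LinearEquiv.ofInjective μ hμ).trans (LinearEquiv.ofEq _ _ hrange)) (pdLE_quotient_Jv j (by omega)))
      (pdLE_mono j.le_succ (pdLE_quotient_Jv j (by omega)))

/-- Powers of the ideal of all variables. -/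
theorem pdLE_quotient_pow : ∀ n : ℕ,
    PdLE (MvPolynomial (Fin t) A) t (MvPolynomial (Fin t) A ⧸ idealOfVars (Fin t) A ^ n)
  | 0 => by
    haveI : Subsingleton (MvPolynomial (Fin t) A ⧸ idealOfVars (Fin t) A ^ 0) :=
      Ideal.Quotient.subsingleton_iff.2 (by rw [pow_zero, Ideal.one_eq_top])
    exact pdLE_of_subsingleton _ t
  | n + 1 => by
    classical
    let J := idealOfVars (Fin t) A
    have hle : J ^ (n + 1) ≤ J ^ n := Ideal.pow_le_pow_right n.le_succ
    let D := ↥((Finset.univ : Finset (Fin t)).finsuppAntidiag n)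
    have hD : ∀ d : Fin t →₀ ℕ, d ∈ (Finset.univ : Finset (Fin t)).finsuppAntidiag n ↔ d.degree = n := fun d => by
      simp [Finset.mem_finsuppAntidiag, Finsupp.degree_eq_sum]
    have hmon : ∀ d : D, monomial (d.1 : Fin t →₀ ℕ) (1 : A) ∈ J ^ n := fun d => by
      rw [mem_pow_idealOfVars_iff]
      intro x hx
      have hx' := Finset.mem_singleton.1 (support_monomial_subset hx)
      rw [hx', (hD d.1).1 d.2]
    let e : ∀ d : D, (MvPolynomial (Fin t) A ⧸ J) →ₗ[MvPolynomial (Fin t) A] (MvPolynomial (Fin t) A ⧸ J ^ (n + 1)) :=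
      fun d => Submodule.liftQ J (LinearMap.toSpanSingleton _ _ (Submodule.Quotient.mk (monomial (d.1 : Fin t →₀ ℕ) (1 : A))))
        (fun p hp => by
          rw [LinearMap.mem_ker, LinearMap.toSpanSingleton_apply, ← Submodule.Quotient.mk_smul,
            Submodule.Quotient.mk_eq_zero, smul_eq_mul, pow_succ']
          exact Ideal.mul_mem_mul hp (hmon d))
    let θ : (D → MvPolynomial (Fin t) A ⧸ J) →ₗ[MvPolynomial (Fin t) A] (MvPolynomial (Fin t) A ⧸ J ^ (n + 1)) :=
      ∑ d : D, (e d).comp (LinearMap.proj d)
    have hθ : ∀ f : D → MvPolynomial (Fin t) A, θ (fun d => Submodule.Quotient.mk (f d)) =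
        Submodule.Quotient.mk (∑ d : D, f d * monomial (d.1 : Fin t →₀ ℕ) (1 : A)) := fun f => by
      rw [← Submodule.mkQ_apply, map_sum]
      simp only [θ, LinearMap.sum_apply, LinearMap.comp_apply, LinearMap.proj_apply]
      rfl
    have hinj : Function.Injective θ := by
      refine (injective_iff_map_eq_zero θ).2 fun v hv => ?_
      choose f hf using fun d => Submodule.Quotient.mk_surjective J (v d)
      rw [show v = fun d => Submodule.Quotient.mk (f d) from funext fun d => (hf d).symm, hθ,
        Submodule.Quotient.mk_eq_zero, mem_pow_idealOfVars_iff'] at hv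
      funext d
      rw [← hf d, Pi.zero_apply, Submodule.Quotient.mk_eq_zero, ← pow_one J, mem_pow_idealOfVars_iff']
      intro x hx
      rw [show x = 0 from (Finsupp.degree_eq_zero_iff x).1 (by omega)]
      have hvd := hv d.1 (by rw [(hD d.1).1 d.2]; exact n.lt_succ_self)
      rw [coeff_sum, Finset.sum_eq_single d] at hvd
      · have : coeff (0 + (d.1 : Fin t →₀ ℕ)) (f d * monomial (d.1 : Fin t →₀ ℕ) (1 : A)) = coeff 0 (f d) * 1 :=
          coeff_mul_monomial _ _ _ _
        rw [zero_add, mul_one] at this
        rw [← this]; exact hvd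
      · intro b _ hb
        rw [coeff_mul_monomial', if_neg]
        intro hle'
        refine hb (Subtype.ext ?_)
        refine Finsupp.ext fun i => le_antisymm (hle' i) ?_
        by_contra hlt
        push Not at hlt
        have := Finset.sum_lt_sum (s := Finset.univ) (fun i _ => hle' i) ⟨i, Finset.mem_univ _, hlt⟩
        have hb2 := (hD b.1).1 b.2; have hd2 := (hD d.1).1 d.2
        rw [Finsupp.degree_eq_sum] at hb2 hd2
        omega
      · intro h; exact absurd (Finset.mem_univ d) h
    have hrange : Function.Exact θ (Submodule.factor hle) := by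
      intro v
      obtain ⟨p, rfl⟩ := Submodule.Quotient.mk_surjective _ v
      rw [show Submodule.factor hle (Submodule.Quotient.mk p) = Submodule.Quotient.mk p from Submodule.factor_mk hle p,
        Submodule.Quotient.mk_eq_zero]
      constructor
      · intro hp
        rw [pow_idealOfVars_eq_span] at hp
        refine Submodule.span_induction (p := fun p _ => Submodule.Quotient.mk p ∈ Set.range θ) ?_ ⟨0, map_zero θ⟩
          (fun x y _ _ hx hy => ?_) (fun c x _ hx => ?_) hp
        · rintro _ ⟨d, hd, rfl⟩
          let d' : D := ⟨d, (hD d).2 hd⟩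
          refine ⟨Pi.single d' (Submodule.Quotient.mk 1), ?_⟩
          rw [show (Pi.single d' (Submodule.Quotient.mk 1) : D → MvPolynomial (Fin t) A ⧸ J) =
            fun b => Submodule.Quotient.mk ((Pi.single d' 1 : D → MvPolynomial (Fin t) A) b) by
              funext b; by_cases h : b = d' <;> simp [Pi.single_apply, h], hθ]
          congr 1
          rw [Finset.sum_eq_single d'] <;> simp [d', Pi.single_apply]
          intro b hb hne; exact absurd hne hb
        · obtain ⟨a, ha⟩ := hx; obtain ⟨b, hb⟩ := hy
          exact ⟨a + b, by rw [map_add, ha, hb]; rfl⟩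
        · obtain ⟨a, ha⟩ := hx
          exact ⟨c • a, by rw [map_smul, ha]; rfl⟩
      · rintro ⟨w, hw⟩
        choose f hf using fun d => Submodule.Quotient.mk_surjective J (w d)
        rw [show w = fun d => Submodule.Quotient.mk (f d) from funext fun d => (hf d).symm, hθ,
          Submodule.Quotient.eq] at hw
        have h1 : ∑ d : D, f d * monomial (d.1 : Fin t →₀ ℕ) (1 : A) ∈ J ^ n :=
          Ideal.sum_mem _ fun d _ => Ideal.mul_mem_left _ _ (hmon d)
        rw [show p = ∑ d : D, f d * monomial (d.1 : Fin t →₀ ℕ) (1 : A) -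
          (∑ d : D, f d * monomial (d.1 : Fin t →₀ ℕ) (1 : A) - p) by ring]
        exact sub_mem h1 (hle hw)
    have hJ : PdLE (MvPolynomial (Fin t) A) t (MvPolynomial (Fin t) A ⧸ J) := by
      refine pdLE_of_equiv (Submodule.quotEquivOfEq _ _ ?_) (pdLE_quotient_Jv A t t le_rfl)
      simp [Jv, J, idealOfVars, Set.image_univ]
    exact pdLE_middle θ (Submodule.factor hle) hinj (Submodule.factor_surjective hle) hrange
      (pdLE_of_equiv (LinearEquiv.funCongrLeft _ _ (Fintype.equivFin D)) (pdLE_pi hJ _))
      (pdLE_quotient_pow n)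

end H1TorUnif
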